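import Groth.Agent.FibDim.K582.RelDim
import Groth.Agent.Flat2D.DimLoc
import Groth.Agent.Flat2C.LqfDense
import Groth.Agent.S1343

/-!
# Fibre dimension of affine space; local constancy for Cohen-Macaulay morphisms
-/

set_option autoImplicit false
universe u

open CategoryTheory AlgebraicGeometry TopologicalSpace Order Limits
open Groth.Agent.VarietyB.DimTop

namespace K582.CMConst

open K582.FibBasic K582.FibRelDim

variable {X Y S : Scheme.{u}}

theorem zero_le_topologicalKrullDim (T : Type*) [TopologicalSpace T] [Nonempty T] :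
    0 ≤ topologicalKrullDim T := by
  have : Nonempty (IrreducibleCloseds T) :=
    ⟨⟨closure {Classical.arbitrary T}, isIrreducible_singleton.closure, isClosed_closure⟩⟩
  exact Order.krullDim_nonneg

theorem localDim_Spec_field (K : Type u) [Field K] (x : Spec (CommRingCat.of K)) :
    FlatMor.localDim (Spec (CommRingCat.of K)) x = 0 := by
  apply le_antisymm
  · refine (localDim_le_dim x).trans ?_
    change topologicalKrullDim (PrimeSpectrum K) ≤ 0
    rw [PrimeSpectrum.topologicalKrullDim_eq_ringKrullDim, ringKrullDim_eq_zero_of_field]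
  · refine le_localDim fun U hU => ?_
    have : Nonempty (U : Set (Spec (CommRingCat.of K))) := ⟨⟨x, hU⟩⟩
    exact zero_le_topologicalKrullDim _

theorem fibreDimAt_affineSpace (n : Type u) [Finite n] (S : Scheme.{u}) (z : 𝔸(n; S)) :
    FlatMor.fibreDimAt (𝔸(n; S) ↘ S) z = (Nat.card n : ℕ) := by
  have h := AffineSpace.isPullback_map (n := n) (S.fromSpecResidueField ((𝔸(n; S) ↘ S) z))
  let e := h.isoPullback.symm
  have h1 := localDim_eq_of_homeomorph (e.hom.homeomorph)
    ((𝔸(n; S) ↘ S).asFiber z : ↥((𝔸(n; S) ↘ S).fiber ((𝔸(n; S) ↘ S) z)))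
  refine h1.trans ?_
  refine (Groth.Agent.Flat2D.DimLoc.localDim_affineSpace _ _ _).trans ?_
  have h2 := localDim_Spec_field (S.residueField ((𝔸(n; S) ↘ S) z))
    ((𝔸(n; Spec (S.residueField ((𝔸(n; S) ↘ S) z))) ↘ Spec (S.residueField ((𝔸(n; S) ↘ S) z)))
      (e.hom.homeomorph ((𝔸(n; S) ↘ S).asFiber z)))
  exact (congrArg (· + ((Nat.card n : ℕ) : WithBot ℕ∞)) h2).trans (zero_add _)

theorem fibreDimAt_nonneg (f : X ⟶ Y) (x : X) : 0 ≤ FlatMor.fibreDimAt f x := by
  refine le_localDim fun U hU => ?_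
  have : Nonempty (U : Set (f.fiber (f x))) := ⟨⟨_, hU⟩⟩
  exact zero_le_topologicalKrullDim _

theorem fibreDimAt_of_locallyQuasiFinite (f : X ⟶ Y) [LocallyQuasiFinite f] [LocallyOfFiniteType f]
    (x : X) :
    FlatMor.fibreDimAt f x = 0 :=
  le_antisymm (Groth.Agent.Flat2C.LqfDense.fibreDimAt_le_zero_of_quasiFiniteAt f x
    (f.quasiFiniteAt x)) (fibreDimAt_nonneg f x)

/-- `x ↦ dim_x X_{f x}` is locally constant for `f` Cohen-Macaulay. -/
theorem isLocallyConstant (f : X ⟶ S) [Flat f] [LocallyOfFinitePresentation f]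
    (hcm : ∀ x : X, MoreMor.IsCMAt f x) :
    IsLocallyConstant (fun x : ↑X => FlatMor.fibreDimAt f x) := by
  rw [IsLocallyConstant.iff_exists_open]
  intro x
  obtain ⟨d, hd⟩ : ∃ d : ℕ, FlatMor.fibreDimAt f x = d := by
    obtain ⟨z, -, -, -, n, -, hn⟩ := Groth.Agent.Ega4fib.H172.FibDimBC.exists_fibGeneric_rtd_eq f x
    exact ⟨n, hn⟩
  obtain ⟨U, g, hxU, hg, hgf, hgq⟩ := (Groth.Agent.S1343.result f x d hd).mp (hcm x)
  refine ⟨U, U.2, hxU, fun u hu => ?_⟩
  rw [hd]
  have hlft : LocallyOfFiniteType (g ≫ (𝔸(ULift.{u} (Fin d); S) ↘ S)) := by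
    rw [hg]
    infer_instance
  have hglft : LocallyOfFiniteType g := locallyOfFiniteType_of_comp g (𝔸(ULift.{u} (Fin d); S) ↘ S)
  obtain ⟨v, rfl⟩ : ∃ v : (U : Scheme.{u}), U.ι v = u := ⟨⟨u, hu⟩, rfl⟩
  have h1 := fibreDimAt_comp_isOpenImmersion U.ι f v
  have h2 := (fibreDimAt_comp g (𝔸(ULift.{u} (Fin d); S) ↘ S) v).2 (Flat.stalkMap g _)
  rw [hg, h1, fibreDimAt_of_locallyQuasiFinite g, fibreDimAt_affineSpace, zero_add,
    Nat.card_eq_fintype_card, Fintype.card_ulift, Fintype.card_fin] at h2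
  exact h2

end K582.CMConst
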