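import Groth.Agent.FibDim.K582.Basic
import Groth.Agent.Ega4fib.H172.FibDimBC

/-!
# Relative dimension: `Cyc.HasRelDim f d ↔ ∀ x, fibreDimAt f x = d`
-/

set_option autoImplicit false
universe u

open CategoryTheory AlgebraicGeometry TopologicalSpace
open Groth.Agent.CycB.RelDim

namespace K582.FibRelDim

open K582.FibBasic

variable {X Y S : Scheme.{u}}

theorem hasRelDim_iff (f : X ⟶ Y) [LocallyOfFiniteType f] (d : ℕ) :
    Cyc.HasRelDim f d ↔ ∀ x : X, FlatMor.fibreDimAt f x = d := by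
  constructor
  · intro h x
    exact Groth.Agent.Dual.H318.PureDim.fibreDimAt_eq f d h x
  · intro h y T hT
    obtain ⟨z, rfl, hz⟩ := exists_fibGeneric_of_mem hT
    obtain ⟨w, hw, hfw, -, n, hn, hn'⟩ :=
      Groth.Agent.Ega4fib.H172.FibDimBC.exists_fibGeneric_rtd_eq f (f.fiberι y z)
    obtain rfl := hz w hfw hw
    obtain ⟨m, hm, hm'⟩ := exists_dim_closure_fiber f y z
    have hmn : m = n := by
      rw [hn] at hm
      exact_mod_cast hm.symm
    subst hmn
    rw [hm', ← hn', h]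

theorem fibreDimAt_comp_isOpenImmersion {U : Scheme.{u}} (j : U ⟶ X) [IsOpenImmersion j]
    (f : X ⟶ Y) [LocallyOfFiniteType f] (u : U) :
    FlatMor.fibreDimAt (j ≫ f) u = FlatMor.fibreDimAt f (j u) :=
  Groth.Agent.Ega4fib.H172.FibDimBC.fibreDimAt_isOpenImmersion_comp j f u

end K582.FibRelDim
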