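import Mathlib.RingTheory.Ideal.KrullsHeightTheorem
import Mathlib.RingTheory.Ideal.GoingDown
import Mathlib.RingTheory.Flat.Basic
import Mathlib.RingTheory.LocalRing.Quotient
import Mathlib.RingTheory.TensorProduct.Quotient
import Mathlib.LinearAlgebra.TensorProduct.Tower

/-!
# Dimension (in)equality for local homomorphisms modulo an ideal

For a local homomorphism `R → S` and an ideal `I ≤ m_R` such that `R/I` and `S/IS` are Noetherian,
`dim S/IS ≤ dim R/I + dim S/m_R S`, with equality if `S` is flat over `R`.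
-/

set_option autoImplicit false

namespace K582.RingDim

open IsLocalRing

theorem flat_quotient (A B : Type*) [CommRing A] [CommRing B] [Algebra A B] [Module.Flat A B]
    (p : Ideal A) : Module.Flat (A ⧸ p) (B ⧸ p.map (algebraMap A B)) :=
  Module.Flat.of_linearEquiv
    (Algebra.TensorProduct.quotIdealMapEquivQuotTensor B p).toLinearEquiv

/-- dimension inequality for a local homomorphism, with equality in the flat case -/
theorem ringKrullDim_add (A B : Type*) [CommRing A] [CommRing B] [IsLocalRing A] [IsLocalRing B]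
    [IsNoetherianRing A] [IsNoetherianRing B] [Algebra A B]
    [IsLocalHom (algebraMap A B)] :
    ringKrullDim B ≤ ringKrullDim A + ringKrullDim (B ⧸ (maximalIdeal A).map (algebraMap A B)) ∧
    (Module.Flat A B →
      ringKrullDim B = ringKrullDim A +
        ringKrullDim (B ⧸ (maximalIdeal A).map (algebraMap A B))) := by
  have hne : (maximalIdeal A).map (algebraMap A B) ≠ ⊤ :=
    (map_maximalIdeal_lt_top (algebraMap A B)).ne
  have : Nontrivial (B ⧸ (maximalIdeal A).map (algebraMap A B)) :=
    Ideal.Quotient.nontrivial_iff.mpr hne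
  have hloc : IsLocalRing (B ⧸ (maximalIdeal A).map (algebraMap A B)) :=
    IsLocalRing.of_surjective' (Ideal.Quotient.mk _) Ideal.Quotient.mk_surjective
  have : (maximalIdeal B).LiesOver (maximalIdeal A) := ⟨(maximalIdeal_comap (algebraMap A B)).symm⟩
  constructor
  · have h := Ideal.height_le_height_add_of_liesOver (maximalIdeal A) (maximalIdeal B)
    rw [map_maximalIdeal_of_surjective _ Ideal.Quotient.mk_surjective] at h
    rw [← maximalIdeal_height_eq_ringKrullDim (R := B),
      ← maximalIdeal_height_eq_ringKrullDim (R := A), ← maximalIdeal_height_eq_ringKrullDim]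
    exact_mod_cast h
  · intro hfl
    have h := Ideal.height_eq_height_add_of_liesOver_of_hasGoingDown (maximalIdeal A)
      (maximalIdeal B)
    rw [map_maximalIdeal_of_surjective _ Ideal.Quotient.mk_surjective] at h
    rw [← maximalIdeal_height_eq_ringKrullDim (R := B),
      ← maximalIdeal_height_eq_ringKrullDim (R := A), ← maximalIdeal_height_eq_ringKrullDim]
    exact_mod_cast h

theorem ringKrullDim_quotient_add (R S : Type*) [CommRing R] [CommRing S] [IsLocalRing R]
    [IsLocalRing S] [Algebra R S] [IsLocalHom (algebraMap R S)] (I : Ideal R)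
    (hI : I ≤ maximalIdeal R) [IsNoetherianRing (R ⧸ I)]
    [IsNoetherianRing (S ⧸ I.map (algebraMap R S))] :
    ringKrullDim (S ⧸ I.map (algebraMap R S)) ≤ ringKrullDim (R ⧸ I) +
      ringKrullDim (S ⧸ (maximalIdeal R).map (algebraMap R S)) ∧
    (Module.Flat R S → ringKrullDim (S ⧸ I.map (algebraMap R S)) = ringKrullDim (R ⧸ I) +
      ringKrullDim (S ⧸ (maximalIdeal R).map (algebraMap R S))) := by
  have hIS : I.map (algebraMap R S) ≤ maximalIdeal S :=
    (Ideal.map_mono hI).trans (map_maximalIdeal_le _)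
  have hn1 : Nontrivial (R ⧸ I) := Ideal.Quotient.nontrivial_iff.mpr fun h =>
    (maximalIdeal.isMaximal R).ne_top (top_le_iff.1 (h ▸ hI))
  have hn2 : Nontrivial (S ⧸ I.map (algebraMap R S)) := Ideal.Quotient.nontrivial_iff.mpr fun h =>
    (maximalIdeal.isMaximal S).ne_top (top_le_iff.1 (h ▸ hIS))
  have hl1 : IsLocalRing (R ⧸ I) :=
    IsLocalRing.of_surjective' (Ideal.Quotient.mk _) Ideal.Quotient.mk_surjective
  have hl2 : IsLocalRing (S ⧸ I.map (algebraMap R S)) :=
    IsLocalRing.of_surjective' (Ideal.Quotient.mk _) Ideal.Quotient.mk_surjective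
  have hm1 : maximalIdeal (R ⧸ I) = (maximalIdeal R).map (Ideal.Quotient.mk I) :=
    (map_maximalIdeal_of_surjective _ Ideal.Quotient.mk_surjective).symm
  have hm2 : maximalIdeal (S ⧸ I.map (algebraMap R S)) =
      (maximalIdeal S).map (Ideal.Quotient.mk _) :=
    (map_maximalIdeal_of_surjective _ Ideal.Quotient.mk_surjective).symm
  have hcomp : (algebraMap (R ⧸ I) (S ⧸ I.map (algebraMap R S))).comp (Ideal.Quotient.mk I) =
      (Ideal.Quotient.mk (I.map (algebraMap R S))).comp (algebraMap R S) := rfl
  have hmap : (maximalIdeal (R ⧸ I)).map (algebraMap (R ⧸ I) (S ⧸ I.map (algebraMap R S))) =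
      ((maximalIdeal R).map (algebraMap R S)).map (Ideal.Quotient.mk _) := by
    rw [hm1, Ideal.map_map, Ideal.map_map, hcomp]
  have hloc : IsLocalHom (algebraMap (R ⧸ I) (S ⧸ I.map (algebraMap R S))) := by
    refine ((local_hom_TFAE (algebraMap (R ⧸ I) (S ⧸ I.map (algebraMap R S)))).out 0 2
      rfl rfl).mpr ?_
    rw [hmap, hm2]
    exact Ideal.map_mono (map_maximalIdeal_le _)
  have hle : I.map (algebraMap R S) ≤ (maximalIdeal R).map (algebraMap R S) := Ideal.map_mono hI
  have e : ringKrullDim ((S ⧸ I.map (algebraMap R S)) ⧸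
      (maximalIdeal (R ⧸ I)).map (algebraMap (R ⧸ I) (S ⧸ I.map (algebraMap R S)))) =
      ringKrullDim (S ⧸ (maximalIdeal R).map (algebraMap R S)) := by
    rw [hmap]
    exact ringKrullDim_eq_of_ringEquiv (DoubleQuot.quotQuotEquivQuotOfLE hle)
  obtain ⟨h1, h2⟩ := ringKrullDim_add (R ⧸ I) (S ⧸ I.map (algebraMap R S))
  rw [e] at h1 h2
  exact ⟨h1, fun hfl => h2 (flat_quotient R S I)⟩

end K582.RingDim
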