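import Mathlib.Topology.Constructible
import Mathlib.AlgebraicGeometry.Morphisms.QuasiCompact
import Mathlib.AlgebraicGeometry.Morphisms.QuasiSeparated
import Mathlib.Topology.Spectral.Prespectral
import Mathlib.AlgebraicGeometry.Morphisms.FinitePresentation

/-!
# Locally constructible sets of a scheme are retrocompact
-/

set_option autoImplicit false
universe u

open CategoryTheory AlgebraicGeometry TopologicalSpace Topology

namespace K582.Retro

lemma isCompact_of_isConstructible {X : Type*} [TopologicalSpace X] [CompactSpace X] {s : Set X}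
    (hs : IsConstructible s) : IsCompact s := by
  induction s, hs using BooleanSubalgebra.closure_sdiff_sup_induction with
  | isSublattice =>
    exact ⟨fun s hs t ht ↦ ⟨hs.1.union ht.1, hs.2.union ht.2⟩,
      fun s hs t ht ↦ ⟨hs.1.inter ht.1, hs.2.inter_isOpen ht.2 ht.1⟩⟩
  | bot_mem => exact ⟨isOpen_empty, .empty⟩
  | top_mem => exact ⟨isOpen_univ, .univ⟩
  | sdiff U hU V hV => exact hU.2.isCompact.diff hV.1
  | sup s _ t _ hs' ht' => exact hs'.union ht'

/-- A locally constructible subset of a scheme is retrocompact. -/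
theorem isRetrocompact_of_isLocallyConstructible {X : Scheme.{u}} {s : Set X}
    (hs : IsLocallyConstructible s) : IsRetrocompact s := by
  intro W hWc hWo
  obtain ⟨t, ht, rfl⟩ := (isCompact_and_isOpen_iff_finite_and_eq_biUnion_affineOpens).mp ⟨hWc, hWo⟩
  rw [Set.inter_iUnion₂]
  refine ht.isCompact_biUnion fun V _ => ?_
  have : IsAffine (V.1 : Scheme.{u}) := V.2
  have hV : IsLocallyConstructible ((Subtype.val : V.1 → X) ⁻¹' s) :=
    hs.preimage_of_isOpenEmbedding V.1.isOpenEmbedding'
  have h2 : CompactSpace (V.1 : Scheme.{u}) := inferInstance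
  have h3 : QuasiSeparatedSpace (V.1 : Scheme.{u}) := inferInstance
  have h4 : PrespectralSpace (V.1 : Scheme.{u}) := inferInstance
  have h1 : IsCompact ((Subtype.val : V.1 → X) ⁻¹' s) :=
    @isCompact_of_isConstructible _ _ h2 _
      (@IsLocallyConstructible.isConstructible _ _ _ h4 h3 h2 hV)
  have h5 : IsCompact ((Subtype.val : V.1 → X) '' ((Subtype.val : V.1 → X) ⁻¹' s)) :=
    h1.image continuous_subtype_val
  have h6 : (Subtype.val : V.1 → X) '' ((Subtype.val : V.1 → X) ⁻¹' s) = s ∩ (V.1 : Set X) := by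
    ext x
    constructor
    · rintro ⟨y, hy, rfl⟩
      exact ⟨hy, y.2⟩
    · rintro ⟨h1, h2⟩
      exact ⟨⟨x, h2⟩, h1, rfl⟩
  rwa [h6] at h5

end K582.Retro
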