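import Groth.Agent.Ega4fib.H112.FibreFormula
import Groth.Agent.Flat2D.DimFlat
import Groth.Agent.Flat2D.RelDimClosure
import Groth.Agent.Dual.H318.PureDim
import Groth.Agent.FibDim.K582.RingDim
import Groth.Prelude.Def_Cyc

/-!
# Dimensions of fibres of a composite; relative dimension

* `fibreDimAt_comp`: `dim_x X_s ≤ dim_x X_y + dim_y Y_s`, equality if flat at `x`.
* `localDim_fiber`: local dimension of `f.fiber y` at `z` is `fibreDimAt f` at the image of `z`.
* `hasRelDim_iff`: `Cyc.HasRelDim f d ↔ ∀ x, fibreDimAt f x = d`.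
-/

set_option autoImplicit false
universe u

open CategoryTheory AlgebraicGeometry TopologicalSpace
open Groth.Agent.CycB.RelDim

namespace K582.FibBasic

variable {X Y S : Scheme.{u}}

theorem apply_fiberι (f : X ⟶ Y) (y : Y) (z : f.fiber y) : f (f.fiberι y z) = y := by
  have : f.fiberι y z ∈ Set.range (f.fiberι y) := ⟨z, rfl⟩
  rw [f.range_fiberι] at this
  exact this

theorem eq_asFiber (f : X ⟶ Y) (x : X) (z : f.fiber (f x)) (hz : f.fiberι (f x) z = x) :
    z = f.asFiber x := by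
  apply (f.fiberι (f x)).isEmbedding.injective
  rw [hz, f.fiberι_asFiber]

theorem localDim_fiber (f : X ⟶ Y) (y : Y) (z : f.fiber y) :
    FlatMor.localDim (f.fiber y) z = FlatMor.fibreDimAt f (f.fiberι y z) := by
  obtain ⟨x, hx⟩ : ∃ x, f.fiberι y z = x := ⟨_, rfl⟩
  have hy : f x = y := by rw [← hx]; exact apply_fiberι f y z
  subst hy
  rw [hx, eq_asFiber f x z hx]
  rfl

theorem isNoetherianRing_fiber_stalk (f : X ⟶ Y) [LocallyOfFiniteType f] (y : Y) (z : f.fiber y) :
    IsNoetherianRing ((f.fiber y).presheaf.stalk z) := by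
  have : LocallyOfFiniteType (f.fiberToSpecResidueField y) :=
    inferInstanceAs (LocallyOfFiniteType (Limits.pullback.snd f (Y.fromSpecResidueField y)))
  have : IsLocallyNoetherian (f.fiber y) :=
    LocallyOfFiniteType.isLocallyNoetherian (f.fiberToSpecResidueField y)
  infer_instance

open Groth.Agent.Flat2D.PbStalk in
theorem isNoetherianRing_quot (f : X ⟶ Y) [LocallyOfFiniteType f] (x : X) :
    IsNoetherianRing (X.presheaf.stalk x ⧸ fiberIdeal f x) :=
  have := isNoetherianRing_fiber_stalk f (f x) (f.asFiber x)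
  isNoetherianRing_of_ringEquiv _ (fiberStalkEquiv f x).symm

open Groth.Agent.Flat2D.PbStalk in
theorem fiberIdeal_comp (f : X ⟶ Y) (g : Y ⟶ S) (x : X) :
    fiberIdeal (f ≫ g) x = (fiberIdeal g (f x)).map (f.stalkMap x).hom := by
  unfold fiberIdeal
  rw [Ideal.map_map, ← CommRingCat.hom_comp, ← Scheme.Hom.stalkMap_comp]
  rfl

open Groth.Agent.Flat2D.PbStalk in
/-- `dim O_{X_s,x} ≤ dim O_{Y_s,y} + dim O_{X_y,x}`, with equality if `f` is flat at `x`. -/
theorem ringKrullDim_fiber_comp (f : X ⟶ Y) (g : Y ⟶ S) [LocallyOfFiniteType f]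
    [LocallyOfFiniteType g] (x : X) :
    ringKrullDim (((f ≫ g).fiber ((f ≫ g) x)).presheaf.stalk ((f ≫ g).asFiber x)) ≤
      ringKrullDim ((g.fiber (g (f x))).presheaf.stalk (g.asFiber (f x))) +
      ringKrullDim ((f.fiber (f x)).presheaf.stalk (f.asFiber x)) ∧
    ((f.stalkMap x).hom.Flat →
      ringKrullDim (((f ≫ g).fiber ((f ≫ g) x)).presheaf.stalk ((f ≫ g).asFiber x)) =
      ringKrullDim ((g.fiber (g (f x))).presheaf.stalk (g.asFiber (f x))) +
      ringKrullDim ((f.fiber (f x)).presheaf.stalk (f.asFiber x))) := by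
  have e1 := ringKrullDim_eq_of_ringEquiv (fiberStalkEquiv (f ≫ g) x)
  have e2 := ringKrullDim_eq_of_ringEquiv (fiberStalkEquiv f x)
  have e3 := ringKrullDim_eq_of_ringEquiv (fiberStalkEquiv g (f x))
  have n1 := isNoetherianRing_quot (f ≫ g) x
  have n3 := isNoetherianRing_quot g (f x)
  rw [← e1, ← e2, ← e3]
  rw [fiberIdeal_comp] at n1 ⊢
  have hle : fiberIdeal g (f x) ≤ IsLocalRing.maximalIdeal (Y.presheaf.stalk (f x)) :=
    fiberIdeal_le_maximalIdeal g (f x)
  unfold RingHom.Flat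
  algebraize [(f.stalkMap x).hom]
  have : IsLocalHom (algebraMap (Y.presheaf.stalk (f x)) (X.presheaf.stalk x)) :=
    inferInstanceAs <| IsLocalHom (f.stalkMap x).hom
  exact RingDim.ringKrullDim_quotient_add (Y.presheaf.stalk (f x)) (X.presheaf.stalk x)
    (fiberIdeal g (f x)) hle

/-- `dim_x X_s ≤ dim_x X_y + dim_y Y_s`, with equality if `f` is flat at `x`. -/
theorem fibreDimAt_comp (f : X ⟶ Y) (g : Y ⟶ S) [LocallyOfFiniteType f]
    [LocallyOfFiniteType g] (x : X) :
    FlatMor.fibreDimAt (f ≫ g) x ≤ FlatMor.fibreDimAt f x + FlatMor.fibreDimAt g (f x) ∧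
      ((f.stalkMap x).hom.Flat →
        FlatMor.fibreDimAt (f ≫ g) x = FlatMor.fibreDimAt f x + FlatMor.fibreDimAt g (f x)) := by
  obtain ⟨m, hm⟩ := Cardinal.lt_aleph0.mp (rtd_lt_aleph0 f x)
  obtain ⟨n, hn⟩ := Cardinal.lt_aleph0.mp (rtd_lt_aleph0 g (f x))
  have hc : rtd (f ≫ g) x = ((n + m : ℕ) : Cardinal) := by
    rw [rtd_comp, hm, hn]
    push_cast
    rfl
  rw [Groth.Agent.Ega4fib.H112.FibreFormula.fibreDimAt_eq_add f x m hm,
    Groth.Agent.Ega4fib.H112.FibreFormula.fibreDimAt_eq_add g (f x) n hn,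
    Groth.Agent.Ega4fib.H112.FibreFormula.fibreDimAt_eq_add (f ≫ g) x (n + m) hc]
  obtain ⟨h1, h2⟩ := ringKrullDim_fiber_comp f g x
  have key : ∀ a b : WithBot ℕ∞, b + (m : WithBot ℕ∞) + (a + (n : WithBot ℕ∞)) =
      a + b + ((n + m : ℕ) : WithBot ℕ∞) := by
    intro a b
    push_cast
    rw [add_add_add_comm, add_comm b a, add_comm (m : WithBot ℕ∞) n]
  rw [key]
  exact ⟨by gcongr, fun h => by rw [h2 h]⟩

end K582.FibBasic
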