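import Groth.Agent.FibDim.K582.RelDim
import Groth.Agent.Flat2D.DimLoc
import Groth.Agent.S1617

/-!
# `dim_x X = dim_{f x} Y + d` for `f` flat of relative dimension `d`; strict monotonicity of the
dimensions of the local rings along specializations in a fibre
-/

set_option autoImplicit false
universe u

open CategoryTheory AlgebraicGeometry TopologicalSpace Order
open Groth.Agent.CycB.RelDim Groth.Agent.Flat2D.DimMap Groth.Agent.Flat2D.DimFlat

namespace K582.FibFlatDim

open K582.FibBasic K582.FibRelDim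

variable {X Y S : Scheme.{u}}

theorem coheight_fiber_le (f : X ⟶ Y) [LocallyOfFiniteType f] (d : ℕ)
    (hd : ∀ x : X, FlatMor.fibreDimAt f x ≤ d) (x : X) :
    Order.coheight (f.asFiber x) ≤ d := by
  obtain ⟨m, hm⟩ := Cardinal.lt_aleph0.mp (rtd_lt_aleph0 f x)
  have h1 := hd x
  rw [Groth.Agent.Ega4fib.H112.FibreFormula.fibreDimAt_eq_add f x m hm,
    ringKrullDim_stalk_eq_coheight] at h1
  have h2 : (Order.coheight (f.asFiber x) : WithBot ℕ∞) ≤
      (Order.coheight (f.asFiber x) : WithBot ℕ∞) + (m : WithBot ℕ∞) := by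
    have : (0 : WithBot ℕ∞) ≤ (m : WithBot ℕ∞) := by exact_mod_cast Nat.zero_le m
    simpa using add_le_add (le_refl ((Order.coheight (f.asFiber x) : ℕ∞) : WithBot ℕ∞)) this
  exact_mod_cast h2.trans h1

theorem coheight_fiber_eq (f : X ⟶ Y) [LocallyOfFiniteType f] (d : ℕ)
    (hd : ∀ x : X, FlatMor.fibreDimAt f x = d) (y : Y) (w : f.fiber y) (hw : IsClosed {w}) :
    Order.coheight w = d := by
  let _ : (f.fiber y).Over (Spec (CommRingCat.of (Y.residueField y))) :=
    ⟨f.fiberToSpecResidueField y⟩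
  have : LocallyOfFiniteType ((f.fiber y) ↘ Spec (CommRingCat.of (Y.residueField y))) :=
    inferInstanceAs (LocallyOfFiniteType (Limits.pullback.snd f (Y.fromSpecResidueField y)))
  have h1 := Groth.Agent.S1617.result (Y.residueField y) (f.fiber y) w hw
  rw [localDim_fiber, hd, ringKrullDim_stalk_eq_coheight] at h1
  exact_mod_cast h1.symm

theorem isJacobson_fiber (f : X ⟶ Y) [LocallyOfFiniteType f] (y : Y) :
    JacobsonSpace (f.fiber y) := by
  have : LocallyOfFiniteType (f.fiberToSpecResidueField y) :=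
    inferInstanceAs (LocallyOfFiniteType (Limits.pullback.snd f (Y.fromSpecResidueField y)))
  exact LocallyOfFiniteType.jacobsonSpace (f.fiberToSpecResidueField y)

theorem exists_coheight_eq (f : X ⟶ Y) [LocallyOfFiniteType f] [Flat f] [IsLocallyNoetherian X]
    [IsLocallyNoetherian Y] (d : ℕ)
    (hd : ∀ x : X, FlatMor.fibreDimAt f x = d) (V : X.Opens) (z : X) (hz : z ∈ V) :
    ∃ w ∈ V, f w = f z ∧ Order.coheight w = Order.coheight (f z) + d := by
  have hJ := isJacobson_fiber f (f z)
  have hopen : IsOpen ((f.fiberι (f z)) ⁻¹' (V : Set X)) :=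
    V.isOpen.preimage (f.fiberι (f z)).continuous
  have hne : ((f.fiberι (f z)) ⁻¹' (V : Set X)).Nonempty :=
    ⟨f.asFiber z, by rw [Set.mem_preimage, f.fiberι_asFiber]; exact hz⟩
  obtain ⟨w, hw, hwc⟩ := nonempty_inter_closedPoints hne hopen.isLocallyClosed
  refine ⟨f.fiberι (f z) w, hw, apply_fiberι f _ w, ?_⟩
  rw [coheight_fiberι, coheight_fiber_eq f d hd _ w hwc]

/-- `dim_x X = dim_{f x} Y + d` for `f` flat, locally of finite type, with all fibres of local
dimension `d` everywhere, `X` and `Y` locally Noetherian. -/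
theorem localDim_eq (f : X ⟶ Y) [LocallyOfFiniteType f] [Flat f] [IsLocallyNoetherian X]
    [IsLocallyNoetherian Y] (d : ℕ)
    (hd : ∀ x : X, FlatMor.fibreDimAt f x = d) (z : X) :
    FlatMor.localDim X z = FlatMor.localDim Y (f z) + (d : WithBot ℕ∞) := by
  have hlfp : LocallyOfFinitePresentation f := inferInstance
  apply le_antisymm
  · have hne : Nonempty {U : Opens Y // f z ∈ U} := ⟨⟨⊤, trivial⟩⟩
    obtain ⟨V, hV⟩ := ciInf_mem (fun U : {U : Opens Y // f z ∈ U} =>
      topologicalKrullDim (U.1 : Set Y))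
    have h1 : FlatMor.localDim Y (f z) = topologicalKrullDim (V.1 : Set Y) := hV.symm
    rw [h1]
    refine (iInf_le _ (⟨f ⁻¹ᵁ V.1, V.2⟩ : {U : Opens X // z ∈ U})).trans ?_
    refine krullDim_opens_le _ fun y hy => ?_
    rw [coheight_eq_add_fiber f y (Flat.stalkMap f y)]
    push_cast
    refine add_le_add (le_krullDim_opens V.1 hy) ?_
    exact_mod_cast coheight_fiber_le f d (fun x => (hd x).le) y
  · refine le_iInf fun V => ?_
    have hopen : IsOpen (f '' (V.1 : Set X)) := f.isOpenMap _ V.1.isOpen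
    let W : Opens Y := ⟨f '' (V.1 : Set X), hopen⟩
    have hzW : f z ∈ W := ⟨z, V.2, rfl⟩
    have h1 : FlatMor.localDim Y (f z) ≤ topologicalKrullDim (W : Set Y) :=
      iInf_le (fun U : {U : Opens Y // f z ∈ U} => topologicalKrullDim (U.1 : Set Y)) ⟨W, hzW⟩
    refine (add_le_add h1 le_rfl).trans ?_
    have hW := krullDim_opens (X := Y) W ⟨_, hzW⟩
    rw [hW]
    have hVd := krullDim_opens (X := X) V.1 ⟨z, V.2⟩
    rw [hVd]
    have key : (⨆ x : W, Order.coheight (x : Y)) + (d : ℕ∞) ≤
        ⨆ x : V.1, Order.coheight (x : X) := by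
      have : Nonempty (↥W) := ⟨⟨f z, hzW⟩⟩
      rw [ENat.iSup_add]
      refine iSup_le ?_
      rintro ⟨_, v, hv, rfl⟩
      obtain ⟨w, hw, -, hw3⟩ := exists_coheight_eq f d hd V.1 v hv
      dsimp only
      rw [← hw3]
      exact le_iSup (fun x : V.1 => Order.coheight (x : X)) ⟨w, hw⟩
    exact_mod_cast key

theorem localDim_le_of_specializes {T : Type*} [TopologicalSpace T] {x x' : T} (h : x ⤳ x') :
    FlatMor.localDim T x ≤ FlatMor.localDim T x' :=
  le_iInf fun U => iInf_le (fun U : {U : Opens T // x ∈ U} => topologicalKrullDim (U.1 : Set T))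
    ⟨U.1, h.mem_open U.1.2 U.2⟩

theorem ringKrullDim_stalk_lt_of_specializes [IsLocallyNoetherian X] {x x' : X} (h : x ⤳ x')
    (hne : x ≠ x') :
    ringKrullDim (X.presheaf.stalk x) < ringKrullDim (X.presheaf.stalk x') := by
  rw [ringKrullDim_stalk_eq_coheight, ringKrullDim_stalk_eq_coheight]
  have hlt : x' < x := by
    rw [lt_iff_le_not_ge, Scheme.le_iff_specializes, Scheme.le_iff_specializes]
    exact ⟨h, fun h' => hne (h.antisymm h').eq⟩
  have hfin : Order.coheight x < ⊤ := by
    have h1 : (Order.coheight x : WithBot ℕ∞) < ((⊤ : ℕ∞) : WithBot ℕ∞) := by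
      rw [← ringKrullDim_stalk_eq_coheight]
      exact ringKrullDim_lt_top
    exact WithBot.coe_lt_coe.mp h1
  exact_mod_cast Order.coheight_strictAnti hlt hfin

end K582.FibFlatDim
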